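import Groth.Agent.CurvSt.K740.Emb
import Groth.Agent.Ega3B.SerreTwist
import Groth.Agent.Mor.K386.VeryAmple
import Groth.Agent.Flat2D.LocalGlobalH
import Groth.Agent.TopDim.K284.Basic
import Groth.Agent.FlatA.FibreDim
import Groth.Agent.Ega2.QCohLocal
import Groth.Agent.Ega2.TensMon
import Groth.Agent.Fdesc.StructMod

/-!
# Embedding a projective curve over a field with vanishing `H¹(O(1))`

`exists_emb`: an H-projective scheme of dimension at most one over a field embeds into some `P^N` with
`H¹(O(1)) = 0`, also after every extension of the field.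
-/

set_option autoImplicit false

universe u

open CategoryTheory CategoryTheory.Limits AlgebraicGeometry TopologicalSpace Opposite

namespace K136.ExistsEmb

open Groth.Agent K740.Emb

/-- The fibre dimension is bounded by the dimension of the source. -/
theorem fibreDimAt_le {Y T : Scheme.{u}} (p : Y ⟶ T) (x : Y) :
    FlatMor.fibreDimAt p x ≤ topologicalKrullDim Y := by
  rw [FlatA.FibreDim.fibreDimAt_eq]
  exact (K284.TopDim.localDim_le_dim _).trans
    (Topology.IsInducing.topologicalKrullDim_le Topology.IsInducing.subtypeVal)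

/-- An immersion into `P^N_T` of a proper scheme is a closed immersion. -/
theorem isClosedImmersion_liftP {Y T : Scheme.{u}} {N : ℕ} (p : Y ⟶ T) [IsProper p]
    (r : Y ⟶ CohB1.ProjSpace N (ULift.{u} ℤ)) (h : IsImmersion (K390.PnSec.liftP r p)) :
    IsClosedImmersion (K390.PnSec.liftP r p) := by
  have h1 := Groth.Agent.Ega3B.ProjProper.isProper_toBase N T
  have h2 : IsProper (K390.PnSec.liftP r p ≫ CohB1.ProjSpaceOver.toBase N T) := by
    rw [K390.PnSec.liftP_toBase]
    infer_instance
  have h3 : IsProper (K390.PnSec.liftP r p) := IsProper.of_comp _ (CohB1.ProjSpaceOver.toBase N T)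
  have h4 : IsPreimmersion (K390.PnSec.liftP r p) := inferInstance
  exact IsClosedImmersion.of_isPreimmersion _ (K390.PnSec.liftP r p).isClosedMap.isClosed_range

theorem exists_emb (k : Type u) [Field k] {Y : Scheme.{u}} (p : Y ⟶ Spec (CommRingCat.of k))
    (hp : RelProj.IsHProjective p) (hdim : topologicalKrullDim Y ≤ 1) :
    ∃ (N : ℕ) (j : Y ⟶ PZ N), IsEmb N p j ∧ H1van p (O1p j) := by
  obtain ⟨n, i, hi, hip⟩ := hp
  have := Groth.Agent.Ega3B.ProjProper.isProper_toBase n (Spec (CommRingCat.of k))
  have hproper : IsProper p := by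
    rw [← hip]
    infer_instance
  have hL : CohB1.IsAmple (Ega3B.ProjFrame.lineOne n i) := Ega3B.SerreTwist.isAmple_lineOne n i
  obtain ⟨m₀, hm₀⟩ := Ega3B.SerreTwist.exists_serre p hL
    (Groth.Agent.Fdesc.StructMod.isCoh_structureModule Y)
  obtain ⟨m₁, hm₁⟩ := K386.VeryAmple.exists_forall_isRelVeryAmplePn p hL
  set L := Ega3B.ProjFrame.lineOne n i with hLdef
  let m := max m₀ m₁
  have hH : Subsingleton (Coh.HH Y (CohB1.tensorPow L m) 1) := by
    have h1 := (hm₀ m (le_max_left _ _)).1 1 one_pos
    exact (Groth.Agent.VarietyA.EulerLES.equivΓ (Ega2.Tens.lunit _) 1).toEquiv.symm.subsingleton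
  obtain ⟨N, r, s, hr, him⟩ := (K390.PnSec.isRelVeryAmplePn_iff p _).1 (hm₁ m (le_max_right _ _))
  obtain ⟨τ, -⟩ := hr
  have hsub : Subsingleton (Spec (CommRingCat.of k)) := inferInstanceAs (Subsingleton (PrimeSpectrum k))
  have hflat : Flat p := inferInstance
  have hlfp : LocallyOfFinitePresentation p :=
    (LocallyOfFinitePresentation.iff_locallyOfFiniteType).2 inferInstance
  refine ⟨N, r, ⟨isClosedImmersion_liftP p r him, hflat, hlfp,
    fun x => (fibreDimAt_le p x).trans hdim⟩, ?_⟩
  intro K _ t Z g q H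
  have ht : Flat t := inferInstance
  have hq : Coh.IsQCoh (O1p r) := by
    have h1 : PicF.IsInvertible (O1p r) :=
      Groth.Agent.Fdesc.LocGen.isInvertible_pullback _ (K390.PnSec.isInvertible_O1 N _)
    exact Groth.Agent.Ega2.QCohLocal.isQCoh_of_isInvertible h1
  refine Groth.Agent.Flat2D.LocalGlobalH.HH_of_flat H (O1p r) hq 0 ?_
  exact (Groth.Agent.VarietyA.EulerLES.equivΓ τ 1).toEquiv.subsingleton

end K136.ExistsEmb
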