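import Groth.Agent.CurvSt.K740.Emb
import Groth.Agent.Sga2.PicThick
import Groth.Agent.S0458
import Groth.Agent.Fga.HShift
import Groth.Agent.FlatA.FibreDim
import Groth.Agent.VarietyB.DimTop
import Groth.Agent.Flat2C.Thick
import Groth.Agent.FormalA.ClosedImm
import Groth.Agent.CohqA.H1Lift
import Groth.Agent.Smoothlim.ModKer
import Groth.Agent.S1313

/-!
# Lifting an embedded curve along a small extension

`exists_lift_small`: `X'` a flat proper family of curves over an Artinian local ring `B'`, `X` its restriction to a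
quotient `B = B'/(ε)` with `m' ε = 0`; an embedding `j : X ⟶ P^N_B` with `H¹(O(1)) = 0` on the closed fibre lifts to
an embedding of `X'`.
-/

set_option autoImplicit false

universe u

open CategoryTheory CategoryTheory.Limits AlgebraicGeometry TopologicalSpace Opposite

namespace K136.LiftSmall

open Groth.Agent Groth.Agent.Fdesc.LocGen Groth.Agent.Dix.ProjProper
open Groth.Agent.Ega2.H295.PnUniq Groth.Agent.Ega2.H295.PnCoord

/-! ### Dimension and cohomology -/

/-- A family of curves over an Artinian local ring has dimension at most one. -/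
theorem dim_le {B' : Type u} [CommRing B'] [IsArtinianRing B'] [IsLocalRing B'] {X' : Scheme.{u}}
    (q' : X' ⟶ Spec (CommRingCat.of B')) (hdim : ∀ x : X', FlatMor.fibreDimAt q' x ≤ 1) :
    topologicalKrullDim X' ≤ 1 := by
  rw [VarietyB.DimTop.topologicalKrullDim_eq_iSup_localDim]
  refine iSup_le fun x => ?_
  refine le_trans (le_of_eq ?_) (hdim x)
  rw [FlatA.FibreDim.fibreDimAt_eq]
  have hu : (q' : X' → Spec (CommRingCat.of B')) ⁻¹' {q' x} = Set.univ := by
    refine Set.eq_univ_of_forall fun y => ?_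
    exact @Subsingleton.elim (PrimeSpectrum B') inferInstance _ _
  exact VarietyB.DimTop.localDim_eq_of_homeomorph
    ((Homeomorph.Set.univ X').symm.trans (Homeomorph.setCongr hu.symm)) x

/-- Grothendieck vanishing in dimension one. -/
theorem subsingleton_H2 {Y : Scheme.{u}} [IsNoetherian Y] (hd : topologicalKrullDim Y ≤ 1) (M : Y.Modules) :
    Subsingleton (Coh.HH Y M 2) := by
  have : NoetherianSpace (Y.toTopCat) := inferInstanceAs (NoetherianSpace Y)
  have hd' : topologicalKrullDim Y ≤ ((1 : ℕ) : WithBot ℕ∞) := by simpa using hd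
  exact S0458.result (X := Y.toTopCat) 1 hd' (Coh.toAb M) 2 (by norm_num)

/-- On a Noetherian scheme of dimension at most one, the quotient of a module with `H¹ = 0` has `H¹ = 0`. -/
theorem subsingleton_of_epi {Y : Scheme.{u}} [IsNoetherian Y] (hd : topologicalKrullDim Y ≤ 1)
    {M N : Y.Modules} (e : M ⟶ N) [Epi e] (h : Subsingleton (Coh.HH Y M 1)) :
    Subsingleton (Coh.HH Y N 1) := by
  have hS : (ShortComplex.mk (kernel.ι e) e (kernel.condition e)).ShortExact :=
    { exact := ShortComplex.exact_kernel e }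
  exact Fga.HShift.subsingleton₃ hS 1 h (subsingleton_H2 hd (kernel e))

/-! ### Surjectivity of the restriction of global sections -/

/-- **Lifting of sections.** `i : X ⟶ X'` and `s : Y ⟶ X'` closed immersions, `a` a function on `X'` generating the
ideal of `i` and killed by the ideal of `s`; if `H¹(Y, L|Y) = 0` then the sections of `L|X` lift to `X'`. -/
theorem sections_surjective {X' X Y : Scheme.{u}} [IsNoetherian Y] (hdY : topologicalKrullDim Y ≤ 1)
    (i : X ⟶ X') [IsClosedImmersion i] (s : Y ⟶ X') [IsClosedImmersion s] (a : Γ(X', ⊤))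
    (hker : ∀ U : X'.affineOpens, RingHom.ker (i.app U.1).hom = Ideal.span {ores (le_top : U.1 ≤ ⊤) a})
    (hs : ∀ U : X'.affineOpens, ∀ b ∈ s.ker.ideal U, b * ores (le_top : U.1 ≤ ⊤) a = 0)
    {L : X'.Modules} (hL : PicF.IsInvertible L)
    (h1 : Subsingleton (Coh.HH Y ((Scheme.Modules.pullback s).obj L) 1)) :
    Function.Surjective (((Scheme.Modules.pullbackPushforwardAdjunction i).unit.app L).app ⊤) := by
  let η := (Scheme.Modules.pullbackPushforwardAdjunction i).unit.app L
  have hηsmul : ∀ (U : X'.Opens) (c : Γ(X', U)) (m : Γ(L, U)),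
      (η.app U (c • m) : Γ((Scheme.Modules.pullback i).obj L, i ⁻¹ᵁ U)) =
        (i.app U c : Γ(X, i ⁻¹ᵁ U)) • (pullSec i m) := fun U c m => pullSec_smul i c m
  -- local generators on affine opens
  have hgen : ∀ (U : X'.Opens) (x : X'), x ∈ U → ∃ (V : X'.affineOpens) (h : V.1 ≤ U) (e : Γ(L, V.1)),
      x ∈ V.1 ∧ IsGen e := by
    intro U x hx
    obtain ⟨W, e, hxW, he⟩ := (isInvertible_iff L).mp hL x
    obtain ⟨_, ⟨V, hV, rfl⟩, hxV, hVW⟩ :=
      X'.isBasis_affineOpens.exists_subset_of_mem_open (show x ∈ (W ⊓ U : X'.Opens) from ⟨hxW, hx⟩) (W ⊓ U).isOpen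
    exact ⟨⟨V, hV⟩, fun y hy => (hVW hy).2, res L (fun y hy => (hVW hy).1) e, hxV, he.res _⟩
  have hloc : CohqA.H1Lift.LocSurj η := by
    intro U m x hx
    obtain ⟨V, hVU, e, hxV, he⟩ := hgen U x hx
    obtain ⟨c, hc⟩ := (he.pullSec i).exists_eq
      (show Γ((Scheme.Modules.pullback i).obj L, i ⁻¹ᵁ V.1) from
        ((Scheme.Modules.pushforward i).obj ((Scheme.Modules.pullback i).obj L)).presheaf.map (homOfLE hVU).op m)
    obtain ⟨c', hc'⟩ := i.app_surjective V.1 V.2 c
    refine ⟨V.1, hVU, c' • e, hxV, ?_⟩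
    refine (hηsmul V.1 c' e).trans ?_
    rw [hc']
    exact hc.symm
  refine CohqA.H1Lift.app_top_surjective_of_H1 η hloc ?_
  -- multiplication by `a`
  let μ : L ⟶ L := Formal.smulModΓ L a
  have hμ : ∀ (U : X'.Opens) (m : Γ(L, U)), μ.app U m = ores (le_top : U ≤ ⊤) a • m := fun U m => rfl
  have hia : ∀ U : X'.affineOpens, i.app U.1 (ores (le_top : U.1 ≤ ⊤) a) = 0 := by
    intro U
    have : ores (le_top : U.1 ≤ ⊤) a ∈ RingHom.ker (i.app U.1).hom := by
      rw [hker U]
      exact Ideal.mem_span_singleton_self _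
    exact this
  let a₀ : Γ(X, ⊤) := i.appTop a
  have hnat : ∀ U : X'.Opens, i.app U (ores (le_top : U ≤ ⊤) a) = ores (le_top : i ⁻¹ᵁ U ≤ ⊤) a₀ := by
    intro U
    have := i.naturality (homOfLE (le_top : U ≤ ⊤)).op
    exact congr($this a)
  have hia0 : a₀ = 0 := by
    refine ores_ext (X := X) (V := ⊤) (fun U : X'.affineOpens => i ⁻¹ᵁ U.1) (fun U => le_top) ?_ fun U => ?_
    · rw [← Scheme.Hom.preimage_iSup, iSup_affineOpens_eq_top]
      exact le_rfl
    · rw [map_zero, ← hia U]
      exact (hnat U.1).symm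
  have hμη : μ ≫ η = 0 := by
    refine Smoothlim.ModKer.eq_zero_of_app _ fun U m => ?_
    refine (hηsmul U (ores (le_top : U ≤ ⊤) a) m).trans ?_
    rw [hnat, hia0, map_zero, zero_smul]
    rfl
  let e : L ⟶ kernel η := kernel.lift η μ hμη
  have heι : ∀ (U : X'.Opens) (m : Γ(L, U)), (kernel.ι η).app U (e.app U m) = ores (le_top : U ≤ ⊤) a • m := by
    intro U m
    have := congr(($(kernel.lift_ι η μ hμη)).app U m)
    exact this
  have hinj : ∀ U : X'.Opens, Function.Injective ((kernel.ι η).app U) := fun U =>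
    Smoothlim.ModKer.app_injective_of_mono (kernel.ι η) U
  have hkη : ∀ (U : X'.Opens) (m : Γ(kernel η, U)), η.app U ((kernel.ι η).app U m) = 0 := by
    intro U m
    have := congr(($(kernel.condition η)).app U m)
    exact this
  -- sections of the kernel are locally multiples of `a`
  have hmul : ∀ (V : X'.affineOpens) (g : Γ(L, V.1)), IsGen g → ∀ m : Γ(kernel η, V.1),
      ∃ b : Γ(X', V.1), e.app V.1 (b • g) = m := by
    intro V g hg m
    obtain ⟨c, hc⟩ := hg.exists_eq ((kernel.ι η).app V.1 m)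
    have h2 : (i.app V.1 c : Γ(X, i ⁻¹ᵁ V.1)) • (pullSec i g) = 0 := by
      rw [← hηsmul V.1 c g, ← hc]
      exact hkη V.1 m
    have h3 : i.app V.1 c = 0 := (hg.pullSec i).ext (by rw [h2, zero_smul])
    have h4 : c ∈ RingHom.ker (i.app V.1).hom := h3
    rw [hker V, Ideal.mem_span_singleton] at h4
    obtain ⟨b, rfl⟩ := h4
    refine ⟨b, hinj V.1 ?_⟩
    rw [heι, hc, mul_smul]
  have hepi : Epi e := by
    have hl : CohqA.H1Lift.LocSurj e := by
      intro U m x hx
      obtain ⟨V, hVU, g, hxV, hg⟩ := hgen U x hx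
      obtain ⟨b, hb⟩ := hmul V g hg ((kernel η).presheaf.map (homOfLE hVU).op m)
      exact ⟨V.1, hVU, b • g, hxV, hb⟩
    have := CohqA.H1Lift.epi_toAb_of_locSurj e hl
    exact (CohqA.H1Lift.toAbF X').epi_of_epi_map this
  have hkill : ClSub.KilledByIdeal s.ker (kernel η) := by
    intro U b hb m
    refine hinj U.1 ?_
    have h0 : (kernel.ι η).app U.1 (b • m) = b • (kernel.ι η).app U.1 m := Scheme.Modules.Hom.app_smul _ _ _
    refine h0.trans (Eq.trans ?_ (map_zero ((kernel.ι η).app U.1).hom).symm)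
    choose V hVU g hxV hg using hgen U.1
    refine res_ext L (fun x : U.1 => (V x.1 x.2).1) (fun x => hVU x.1 x.2) ?_ fun x => ?_
    · intro x hx
      exact Opens.mem_iSup.2 ⟨⟨x, hx⟩, hxV x hx⟩
    · rw [map_zero, res_smul, ← app_res]
      obtain ⟨c, hc⟩ := hmul (V x.1 x.2) (g x.1 x.2) (hg x.1 x.2) (res (kernel η) (hVU x.1 x.2) m)
      rw [← hc, heι, ← mul_smul, ← ores_ores (le_top : U.1 ≤ ⊤) (hVU x.1 x.2) a, ← map_mul, hs U b hb, map_zero,
        zero_smul]
  have h2 : Subsingleton (Coh.HH Y ((Scheme.Modules.pullback s).obj (kernel η)) 1) :=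
    subsingleton_of_epi hdY ((Scheme.Modules.pullback s).map e) h1
  have h3 := Sga2.PicThick.subsingleton_HH_pushforward s _ 1 h2
  have h4 := FormalA.ClosedImm.isIso_unit s hkill
  exact Fga.HShift.subsingleton_of_iso
    (asIso ((Scheme.Modules.pullbackPushforwardAdjunction s).unit.app (kernel η))).symm 1 h3

/-! ### Geometry of the small extension -/

/-- The functions on `Spec B'`, on a `B'`-scheme. -/
noncomputable def str {B' : Type u} [CommRing B'] {X' : Scheme.{u}} (q' : X' ⟶ Spec (CommRingCat.of B')) :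
    B' →+* Γ(X', ⊤) :=
  (q'.appTop.hom).comp (Scheme.ΓSpecIso (CommRingCat.of B')).inv.hom

theorem ker_appTop_specMap {B' C : Type u} [CommRing B'] [CommRing C] (ψ : B' →+* C) :
    RingHom.ker ((Spec.map (CommRingCat.ofHom ψ)).app ⊤).hom =
      (RingHom.ker ψ).map (Scheme.ΓSpecIso (CommRingCat.of B')).inv.hom := by
  have nat : ∀ b : B', (Spec.map (CommRingCat.ofHom ψ)).app ⊤ ((Scheme.ΓSpecIso (CommRingCat.of B')).inv b) =
      (Scheme.ΓSpecIso (CommRingCat.of C)).inv (ψ b) := by
    intro b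
    have := Scheme.ΓSpecIso_inv_naturality (CommRingCat.ofHom ψ)
    exact (congr($this b)).symm
  refine le_antisymm (fun x hx => ?_) ?_
  · have hx1 : (Scheme.ΓSpecIso (CommRingCat.of B')).inv ((Scheme.ΓSpecIso (CommRingCat.of B')).hom x) = x := by
      have := (Scheme.ΓSpecIso (CommRingCat.of B')).hom_inv_id
      exact congr($this x)
    have h2 := nat ((Scheme.ΓSpecIso (CommRingCat.of B')).hom x)
    rw [hx1] at h2
    have hx' : (Spec.map (CommRingCat.ofHom ψ)).app ⊤ x = 0 := hx
    rw [hx'] at h2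
    have h3 : ψ ((Scheme.ΓSpecIso (CommRingCat.of B')).hom x) = 0 := by
      have h4 := congrArg (Scheme.ΓSpecIso (CommRingCat.of C)).hom h2
      have h5 : (Scheme.ΓSpecIso (CommRingCat.of C)).hom ((Scheme.ΓSpecIso (CommRingCat.of C)).inv
          (ψ ((Scheme.ΓSpecIso (CommRingCat.of B')).hom x))) = ψ ((Scheme.ΓSpecIso (CommRingCat.of B')).hom x) := by
        have := (Scheme.ΓSpecIso (CommRingCat.of C)).inv_hom_id
        exact congr($this (ψ ((Scheme.ΓSpecIso (CommRingCat.of B')).hom x)))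
      exact h5.symm.trans (h4.symm.trans (map_zero (Scheme.ΓSpecIso (CommRingCat.of C)).hom.hom))
    rw [← hx1]
    exact Ideal.mem_map_of_mem _ h3
  · rw [Ideal.map_le_iff_le_comap]
    intro b hb
    have hb' : ψ b = 0 := hb
    change (Spec.map (CommRingCat.ofHom ψ)).app ⊤ ((Scheme.ΓSpecIso (CommRingCat.of B')).inv b) = 0
    rw [nat, hb']
    exact map_zero (Scheme.ΓSpecIso (CommRingCat.of C)).inv.hom

/-- The ideal of the base change of a closed subscheme of `Spec B'`. -/
theorem ker_app {B' C : Type u} [CommRing B'] [CommRing C] (ψ : B' →+* C) (hψ : Function.Surjective ψ)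
    {X' Y : Scheme.{u}} {s : Y ⟶ X'} {p : Y ⟶ Spec (CommRingCat.of C)} {q' : X' ⟶ Spec (CommRingCat.of B')}
    (sq : IsPullback s p q' (Spec.map (CommRingCat.ofHom ψ))) (U : X'.affineOpens) :
    RingHom.ker (s.app U.1).hom = (RingHom.ker ψ).map ((ores (le_top : U.1 ≤ ⊤)).comp (str q')) := by
  have : IsClosedImmersion (Spec.map (CommRingCat.ofHom ψ)) := IsClosedImmersion.spec_of_surjective _ hψ
  have h := (Flat2C.Thick.surjective_app_and_ker_app sq (isAffineOpen_top _) U.2 le_top).2
  rw [h, ker_appTop_specMap, Ideal.map_map]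
  rfl

/-- `ε² = 0` and more generally `m ε = 0` for `m` in the maximal ideal. -/
theorem eps_mem {B B' : Type u} [CommRing B] [CommRing B'] [IsLocalRing B] [IsLocalRing B'] (φ : B' →+* B) (ε : B')
    (hk : RingHom.ker φ = Ideal.span {ε}) : ε ∈ IsLocalRing.maximalIdeal B' := by
  rw [IsLocalRing.mem_maximalIdeal]
  intro hu
  have h1 : φ ε = 0 := by
    have : ε ∈ RingHom.ker φ := by rw [hk]; exact Ideal.mem_span_singleton_self _
    exact this
  have := hu.map φ
  rw [h1] at this
  exact not_isUnit_zero this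

/-- **Lifting an embedded curve along a small extension.** -/
theorem exists_lift_small (N : ℕ) (B B' : Type u) [CommRing B] [CommRing B'] [IsArtinianRing B] [IsArtinianRing B']
    [IsLocalRing B] [IsLocalRing B'] (φ : B' →+* B) (ε : B') (hφ : Function.Surjective φ)
    (hk : RingHom.ker φ = Ideal.span {ε}) (hε : ∀ m ∈ IsLocalRing.maximalIdeal B', ε * m = 0)
    {X X' : Scheme.{u}} (q' : X' ⟶ Spec (CommRingCat.of B')) [IsProper q'] [Flat q']
    (hdim : ∀ x : X', FlatMor.fibreDimAt q' x ≤ 1) (q : X ⟶ Spec (CommRingCat.of B)) (i : X ⟶ X')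
    (sq : IsPullback i q q' (Spec.map (CommRingCat.ofHom φ))) (j : X ⟶ K740.Emb.PZ N)
    (hj : IsClosedImmersion (K390.PnSec.liftP j q)) (h1 : K740.Emb.H1van q (K740.Emb.O1p j)) :
    ∃ j' : X' ⟶ K740.Emb.PZ N, IsClosedImmersion (K390.PnSec.liftP j' q') ∧ i ≫ j' = j := by
  have hεm := eps_mem φ ε hk
  have hεε : ε * ε = 0 := hε ε hεm
  have : IsLocallyNoetherian X' := LocallyOfFiniteType.isLocallyNoetherian q'
  have : CompactSpace X' := QuasiCompact.compactSpace_of_compactSpace q'
  have hNX' : IsNoetherian X' := {}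
  have hdX' := dim_le q' hdim
  have hcl : IsClosedImmersion (Spec.map (CommRingCat.ofHom φ)) := IsClosedImmersion.spec_of_surjective _ hφ
  have hi : IsClosedImmersion i := MorphismProperty.of_isPullback (P := @IsClosedImmersion) sq.flip hcl
  have hsurjS : Surjective (Spec.map (CommRingCat.ofHom φ)) := by
    refine ⟨fun y => ?_⟩
    refine ⟨(default : PrimeSpectrum B), ?_⟩
    exact @Subsingleton.elim (PrimeSpectrum B') inferInstance _ _
  have hsi : Surjective i := MorphismProperty.of_isPullback (P := @Surjective) sq.flip hsurjS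
  let a : Γ(X', ⊤) := str q' ε
  have hker : ∀ U : X'.affineOpens, RingHom.ker (i.app U.1).hom = Ideal.span {ores (le_top : U.1 ≤ ⊤) a} := by
    intro U
    rw [ker_app φ hφ sq U, hk, Ideal.map_span, Set.image_singleton]
    rfl
  have hI : i.ker ^ 2 = ⊥ := by
    refine Scheme.IdealSheafData.ext (funext fun U => ?_)
    rw [Scheme.IdealSheafData.ideal_pow, Pi.pow_apply, Scheme.Hom.ker_apply, hker U, Ideal.span_singleton_pow,
      pow_two, ← map_mul, show a * a = 0 from by rw [← map_mul, hεε, map_zero], map_zero, Ideal.span_singleton_eq_bot.2 rfl]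
    rfl
  have hH2 : Subsingleton (Coh.HH X' (kernel (ClSub.unitToPush i)) 2) :=
    subsingleton_H2 hdX' _
  have hLinv : PicF.IsInvertible (K740.Emb.O1p j) := isInvertible_pullback _ (K390.PnSec.isInvertible_O1 N _)
  obtain ⟨L, hL, ⟨τ⟩⟩ := Sga2.PicThick.lift_of_H2 i hI hH2 (K740.Emb.O1p j) hLinv
  -- the closed fibre
  let k := IsLocalRing.ResidueField B
  let t : Spec (CommRingCat.of k) ⟶ Spec (CommRingCat.of B) := Spec.map (CommRingCat.ofHom (IsLocalRing.residue B))
  let Y := pullback q t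
  let ι : Y ⟶ X := pullback.fst q t
  have sqY : IsPullback ι (pullback.snd q t) q t := IsPullback.of_hasPullback q t
  let ψ : B' →+* k := (IsLocalRing.residue B).comp φ
  have hψ : Function.Surjective ψ := (IsLocalRing.residue_surjective).comp hφ
  have sqY' : IsPullback (ι ≫ i) (pullback.snd q t) q' (Spec.map (CommRingCat.ofHom ψ)) := by
    have h := sqY.paste_horiz sq
    have e : t ≫ Spec.map (CommRingCat.ofHom φ) = Spec.map (CommRingCat.ofHom ψ) := by
      rw [← Spec.map_comp]
      rfl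
    rwa [e] at h
  have hclψ : IsClosedImmersion (Spec.map (CommRingCat.ofHom ψ)) := IsClosedImmersion.spec_of_surjective _ hψ
  have hs : IsClosedImmersion (ι ≫ i) := MorphismProperty.of_isPullback (P := @IsClosedImmersion) sqY'.flip hclψ
  have hkψ : RingHom.ker ψ ≤ IsLocalRing.maximalIdeal B' := by
    intro b hb
    rw [IsLocalRing.mem_maximalIdeal]
    intro hu
    have h2 : ψ b = 0 := hb
    have := hu.map ψ
    rw [h2] at this
    exact not_isUnit_zero this
  have hsa : ∀ U : X'.affineOpens, ∀ b ∈ (ι ≫ i).ker.ideal U, b * ores (le_top : U.1 ≤ ⊤) a = 0 := by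
    intro U b hb
    rw [Scheme.Hom.ker_apply, ker_app ψ hψ sqY' U] at hb
    induction hb using Submodule.span_induction with
    | mem b hb =>
      obtain ⟨m, hm, rfl⟩ := hb
      have h2 : m * ε = 0 := by rw [mul_comm]; exact hε m (hkψ hm)
      have h3 : ((ores (le_top : U.1 ≤ ⊤)).comp (str q')) m * ores (le_top : U.1 ≤ ⊤) a =
        ((ores (le_top : U.1 ≤ ⊤)).comp (str q')) (m * ε) := by rw [map_mul]; rfl
      rw [h3, h2, map_zero]
    | zero => rw [zero_mul]
    | add x y _ _ hx hy => rw [add_mul, hx, hy, add_zero]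
    | smul r x _ hx => rw [smul_mul_assoc, hx, smul_zero]
  have : IsLocallyNoetherian Y := LocallyOfFiniteType.isLocallyNoetherian (ι ≫ i)
  have : CompactSpace Y := QuasiCompact.compactSpace_of_compactSpace (ι ≫ i)
  have : IsNoetherian Y := {}
  have hdY : topologicalKrullDim Y ≤ 1 :=
    ((ι ≫ i).isClosedEmbedding.isInducing.topologicalKrullDim_le).trans hdX'
  have hY1 : Subsingleton (Coh.HH Y ((Scheme.Modules.pullback (ι ≫ i)).obj L) 1) := by
    refine Fga.HShift.subsingleton_of_iso ?_ 1 (h1 k t Y ι (pullback.snd q t) sqY)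
    exact (Scheme.Modules.pullback ι).mapIso τ.symm ≪≫ (Scheme.Modules.pullbackComp ι i).app L
  have hsurj := sections_surjective hdY i (ι ≫ i) a hker hsa hL hY1
  -- lift the coordinates
  have hsec : ∀ c : Fin (N + 1), ∃ u : Γ(L, ⊤), pullTop i u = τ.inv.app ⊤ (tsec j c) := fun c => hsurj _
  choose u hu using hsec
  have hτu : ∀ c, τ.hom.app ⊤ (pullTop i (u c)) = tsec j c := by
    intro c
    rw [hu]
    have := congr(($(τ.inv_hom_id)).app ⊤ (tsec j c))
    exact this
  have hcov : ⨆ c, CohB1.genLocus L (homOf (u c)) = ⊤ := by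
    have h3 : i ⁻¹ᵁ (⨆ c, CohB1.genLocus L (homOf (u c))) = ⊤ := by
      rw [Scheme.Hom.preimage_iSup, ← (K390.PnSec.GivenBy.refl j).iSup_genLocus]
      refine iSup_congr fun c => ?_
      rw [← K390.PnSec.genLocus_pullTop i hL, ← K390.PnSec.genLocus_app τ, hτu]
    rw [eq_top_iff]
    rintro x -
    obtain ⟨y, rfl⟩ := hsi.surj x
    have : y ∈ i ⁻¹ᵁ (⨆ c, CohB1.genLocus L (homOf (u c))) := by rw [h3]; trivial
    exact this
  obtain ⟨j', hj'⟩ := K390.PnSec.exists_givenBy' u hcov
  have hij : i ≫ j' = j := by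
    have h3 := (hj'.comp i).of_iso τ
    have h4 : (fun c => τ.hom.app ⊤ (pullTop i (u c))) = fun c => tsec j c := funext hτu
    rw [h4] at h3
    exact h3.unique' (K390.PnSec.GivenBy.refl j)
  refine ⟨j', ?_, hij⟩
  -- the closed immersion
  have hP : IsPullback (mapBase N (Spec.map (CommRingCat.ofHom φ))) (CohB1.ProjSpaceOver.toBase N _)
      (CohB1.ProjSpaceOver.toBase N _) (Spec.map (CommRingCat.ofHom φ)) := isPullback_mapBase N _
  have hw : i ≫ K390.PnSec.liftP j' q' = K390.PnSec.liftP j q ≫ mapBase N (Spec.map (CommRingCat.ofHom φ)) := by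
    refine K390.PnSec.hom_ext_over ?_ ?_
    · rw [Category.assoc, Category.assoc, K390.PnSec.liftP_toZ, mapBase_toZ, K390.PnSec.liftP_toZ, hij]
    · rw [Category.assoc, K390.PnSec.liftP_toBase, Category.assoc, hP.w, ← Category.assoc,
        K390.PnSec.liftP_toBase, sq.w]
  have hsq : IsPullback i (K390.PnSec.liftP j q) (K390.PnSec.liftP j' q') (mapBase N (Spec.map (CommRingCat.ofHom φ))) := by
    refine IsPullback.of_bot ?_ hw hP
    rw [K390.PnSec.liftP_toBase, K390.PnSec.liftP_toBase]
    exact sq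
  have : LocallyOfFiniteType (K390.PnSec.liftP j' q') := by
    have : LocallyOfFiniteType (K390.PnSec.liftP j' q' ≫ CohB1.ProjSpaceOver.toBase N _) := by
      rw [K390.PnSec.liftP_toBase]
      infer_instance
    exact locallyOfFiniteType_of_comp _ (CohB1.ProjSpaceOver.toBase N _)
  refine (S1313.result i (mapBase N (Spec.map (CommRingCat.ofHom φ))) (K390.PnSec.liftP j q)
    (K390.PnSec.liftP j' q') ⟨?_, ?_⟩ hsq).1 hj
  · exact MorphismProperty.of_isPullback (P := @IsClosedImmersion) hP.flip hcl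
  · exact MorphismProperty.of_isPullback (P := @Surjective) hP.flip hsurjS

end K136.LiftSmall
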